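import Groth.Agent.Lib.FormalGlueH7.Basic
import Mathlib.Algebra.Module.LocalizedModule.Basic
import Mathlib.LinearAlgebra.TensorProduct.Pi
import Mathlib.RingTheory.Finiteness.Ideal

/-!
Extensions of torsion modules descend along formal glueing maps.
-/

universe u

open TensorProduct

namespace Groth.Agent.GlueExtH7

variable {R : Type u} [CommRing R] {t : ℕ} (f : Fin t → R) (N : Type u) [AddCommGroup N] [Module R N]

/-- `N` localised at `f i`. -/
abbrev Loc (i : Fin t) : Type u := LocalizedModule (Submonoid.powers (f i)) N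

/-- `N` localised at `f i`, then at `f j`. -/
abbrev Loc₂ (ij : Fin t × Fin t) : Type u := LocalizedModule (Submonoid.powers (f ij.2)) (Loc f N ij.1)

theorem isUnit_loc (i : Fin t) (x : Submonoid.powers (f i)) :
    IsUnit (algebraMap R (Module.End R (Loc f N i)) (x : R)) :=
  IsLocalizedModule.map_units (LocalizedModule.mkLinearMap _ N) x

/-- `N → ∏ N_i`. -/
noncomputable def d₀ : N →ₗ[R] Π i, Loc f N i :=
  LinearMap.pi fun i => LocalizedModule.mkLinearMap (Submonoid.powers (f i)) N

/-- The first restriction. -/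
noncomputable def resFst (ij : Fin t × Fin t) : Loc f N ij.1 →ₗ[R] Loc₂ f N ij :=
  LocalizedModule.mkLinearMap _ _

/-- The second restriction. -/
noncomputable def resSnd (ij : Fin t × Fin t) : Loc f N ij.2 →ₗ[R] Loc₂ f N ij :=
  IsLocalizedModule.lift (Submonoid.powers (f ij.2)) (LocalizedModule.mkLinearMap _ N)
    (resFst f N ij ∘ₗ LocalizedModule.mkLinearMap _ N)
    fun x => IsLocalizedModule.map_units (LocalizedModule.mkLinearMap _ (Loc f N ij.1)) x

theorem resSnd_mk (ij : Fin t × Fin t) (n : N) :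
    resSnd f N ij (LocalizedModule.mkLinearMap _ N n) = resFst f N ij (LocalizedModule.mkLinearMap _ N n) :=
  IsLocalizedModule.lift_apply _ _ _ _ n

/-- The difference of the two restrictions. -/
noncomputable def d₁ : (Π i, Loc f N i) →ₗ[R] Π ij, Loc₂ f N ij :=
  LinearMap.pi fun ij => resFst f N ij ∘ₗ LinearMap.proj ij.1 - resSnd f N ij ∘ₗ LinearMap.proj ij.2

theorem d₁_d₀ (n : N) : d₁ f N (d₀ f N n) = 0 := by
  funext ij
  simp only [d₁, d₀, LinearMap.pi_apply, LinearMap.sub_apply, LinearMap.comp_apply, LinearMap.proj_apply,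
    resSnd_mk, sub_self, Pi.zero_apply]

/-- `N → ker d₁`. -/
noncomputable def d₀' : N →ₗ[R] LinearMap.ker (d₁ f N) := (d₀ f N).codRestrict _ (d₁_d₀ f N)

theorem exists_pow_smul_mem (z : LinearMap.ker (d₁ f N)) (i : Fin t) :
    ∃ k : ℕ, f i ^ k • z ∈ LinearMap.range (d₀' f N) := by
  classical
  obtain ⟨⟨n, ⟨_, k, rfl⟩⟩, hn⟩ := IsLocalizedModule.surj (Submonoid.powers (f i))
    (LocalizedModule.mkLinearMap _ N) (z.1 i)
  change f i ^ k • z.1 i = LocalizedModule.mkLinearMap _ N n at hn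
  let w : LinearMap.ker (d₁ f N) := f i ^ k • z - d₀' f N n
  have hwi : w.1 i = 0 := by
    show f i ^ k • z.1 i - _ = 0
    rw [hn]; exact sub_self _
  have hj : ∀ j, ∃ l : ℕ, f i ^ l • w.1 j = 0 := fun j => by
    have h := congrFun w.2 (j, i)
    simp only [d₁, LinearMap.pi_apply, LinearMap.sub_apply, LinearMap.comp_apply, LinearMap.proj_apply, hwi,
      map_zero, sub_zero, Pi.zero_apply] at h
    obtain ⟨⟨_, l, rfl⟩, hl⟩ := (IsLocalizedModule.eq_zero_iff (Submonoid.powers (f i))
      (LocalizedModule.mkLinearMap _ (Loc f N j))).1 h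
    exact ⟨l, hl⟩
  choose l hl using hj
  refine ⟨Finset.univ.sup l + k, f i ^ Finset.univ.sup l • n, ?_⟩
  rw [map_smul, pow_add, mul_smul, eq_comm, ← sub_eq_zero]
  refine (smul_sub (f i ^ Finset.univ.sup l) _ _).symm.trans ?_
  refine Subtype.ext (funext fun j => ?_)
  show f i ^ Finset.univ.sup l • w.1 j = 0
  obtain ⟨c, hc⟩ := Nat.exists_eq_add_of_le (Finset.le_sup (f := l) (Finset.mem_univ j))
  rw [hc, pow_add, mul_comm, mul_smul, hl, smul_zero]

theorem exists_pow_le {M : Type u} [AddCommGroup M] [Module R M] (P : Submodule R M) (m : M)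
    (h : ∀ i, ∃ k : ℕ, f i ^ k • m ∈ P) : ∃ n : ℕ, ∀ a ∈ Ideal.span (Set.range f) ^ n, a • m ∈ P := by
  let A : Ideal R := P.comap ((LinearMap.id : R →ₗ[R] R).smulRight m)
  have hle : Ideal.span (Set.range f) ≤ A.radical := Ideal.span_le.2 fun _ ⟨i, hi⟩ => hi ▸ (h i).imp fun k hk => hk
  obtain ⟨n, hn⟩ := Ideal.exists_pow_le_of_le_radical_of_fg hle (Submodule.fg_span (Set.finite_range f))
  exact ⟨n, fun a ha => hn ha⟩

variable (S : Type u) [CommRing S] [Algebra R S]

/-- `E' → S ⊗ N_i`, on an extension of a torsion module. -/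
theorem exists_ext {E' : Type u} [AddCommGroup E'] [Module R E'] (i' : S ⊗[R] N →ₗ[R] E')
    (hi' : Function.Injective i') (he : ∀ (e : E') (i : Fin t), ∃ k : ℕ, f i ^ k • e ∈ LinearMap.range i')
    (i : Fin t) : ∃ L : E' →ₗ[R] S ⊗[R] Loc f N i, ∀ (e : E') (k : ℕ) (y : S ⊗[R] N),
      f i ^ k • e = i' y → f i ^ k • L e = (LocalizedModule.mkLinearMap _ N).lTensor S y := by
  have hu : ∀ x : Submonoid.powers (f i), IsUnit (algebraMap R (Module.End R (S ⊗[R] Loc f N i)) (x : R)) := fun x => by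
    rw [Module.End.isUnit_iff]
    have h := (Module.End.isUnit_iff _).1 (isUnit_loc f N i x)
    let e := LinearEquiv.ofBijective (algebraMap R (Module.End R (Loc f N i)) (x : R)) h
    refine (show ⇑(algebraMap R (Module.End R (S ⊗[R] Loc f N i)) (x : R)) = ⇑(e.lTensor S) from ?_) ▸
      (e.lTensor S).bijective
    funext z
    induction z using TensorProduct.induction_on with
    | zero => simp
    | tmul s n =>
      show (x : R) • (s ⊗ₜ[R] n) = s ⊗ₜ[R] ((x : R) • n)
      rw [TensorProduct.smul_tmul', TensorProduct.smul_tmul]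
    | add a b ha hb => simp only [map_add, ha, hb]
  have hii : ∀ (x : LocalizedModule (Submonoid.powers (f i)) E'), ∃ w : LocalizedModule (Submonoid.powers (f i)) (S ⊗[R] N),
      IsLocalizedModule.map (Submonoid.powers (f i)) (LocalizedModule.mkLinearMap _ _) (LocalizedModule.mkLinearMap _ _) i' w = x := by
    intro x
    obtain ⟨⟨e, s⟩, rfl⟩ := IsLocalizedModule.mk'_surjective (Submonoid.powers (f i)) (LocalizedModule.mkLinearMap _ E') x
    obtain ⟨k, y, hy⟩ := he e i
    refine ⟨IsLocalizedModule.mk' (LocalizedModule.mkLinearMap (Submonoid.powers (f i)) _) y (s * (⟨f i ^ k, k, rfl⟩ : Submonoid.powers (f i))), ?_⟩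
    simp only [Function.uncurry_apply_pair]
    rw [IsLocalizedModule.map_mk', hy, mul_comm]
    exact IsLocalizedModule.mk'_cancel_left (LocalizedModule.mkLinearMap (Submonoid.powers (f i)) E') e (⟨f i ^ k, k, rfl⟩ : Submonoid.powers (f i)) s
  let F := LinearEquiv.ofBijective _ ⟨IsLocalizedModule.map_injective (Submonoid.powers (f i))
    (LocalizedModule.mkLinearMap _ (S ⊗[R] N)) (LocalizedModule.mkLinearMap _ E') i' hi', hii⟩
  let G : LocalizedModule (Submonoid.powers (f i)) (S ⊗[R] N) →ₗ[R] S ⊗[R] Loc f N i :=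
    IsLocalizedModule.lift (Submonoid.powers (f i)) (LocalizedModule.mkLinearMap _ _)
      ((LocalizedModule.mkLinearMap _ N).lTensor S) hu
  refine ⟨G ∘ₗ F.symm.toLinearMap ∘ₗ LocalizedModule.mkLinearMap _ E', fun e k y hy => ?_⟩
  rw [← map_smul, hy, LinearMap.comp_apply, LinearMap.comp_apply, LinearEquiv.coe_coe,
    show LocalizedModule.mkLinearMap _ E' (i' y) = F (LocalizedModule.mkLinearMap _ _ y) from
      (IsLocalizedModule.map_apply _ _ _ _ y).symm, LinearEquiv.symm_apply_apply]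
  exact IsLocalizedModule.lift_apply _ _ _ _ y

theorem exists_extension [Module.Flat R S] {I : Ideal R} (hI : Ideal.span (Set.range f) = I)
    (hq : FormalGlueH7.QBij S I) {M : Type u} [AddCommGroup M] [Module R M]
    (hM : ∀ m : M, ∃ n : ℕ, ∀ a ∈ I ^ n, a • m = 0) {E' : Type u} [AddCommGroup E'] [Module R E']
    (i' : S ⊗[R] N →ₗ[R] E') (p' : E' →ₗ[R] S ⊗[R] M) (hi' : Function.Injective i') (hp' : Function.Surjective p')
    (hex : Function.Exact i' p') :
    ∃ (E : Type u) (_ : AddCommGroup E) (_ : Module R E) (i : N →ₗ[R] E) (p : E →ₗ[R] M) (g : E →ₗ[R] E'),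
      Function.Injective i ∧ Function.Surjective p ∧ LinearMap.range i = LinearMap.ker p ∧
      (∀ n : N, g (i n) = i' ((1 : S) ⊗ₜ[R] n)) ∧ (∀ e : E, p' (g e) = (1 : S) ⊗ₜ[R] p e) := by
  classical
  subst hI
  let μ := LinearEquiv.ofBijective _ (FormalGlueH7.mk_bijective_of_torsion hq hM)
  have he : ∀ (e : E') (i : Fin t), ∃ k : ℕ, f i ^ k • e ∈ LinearMap.range i' := fun e i => by
    obtain ⟨m, hm⟩ := μ.surjective (p' e)
    obtain ⟨n, hn⟩ := hM m
    refine ⟨n, (hex _).1 ?_⟩
    rw [map_smul, ← hm, ← map_smul]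
    exact (congrArg μ (hn _ (Ideal.pow_mem_pow (Ideal.subset_span (Set.mem_range_self i)) n))).trans (map_zero μ)
  choose L hL using exists_ext f N S i' hi' he
  let Λ : E' →ₗ[R] Π i, S ⊗[R] Loc f N i := LinearMap.pi L
  let P := TensorProduct.piRight R R S (Loc f N)
  let P₂ := TensorProduct.piRight R R S (Loc₂ f N)
  let Z := LinearMap.ker (d₁ f N)
  let ε : Z →ₗ[R] Π i, S ⊗[R] Loc f N i := P.toLinearMap ∘ₗ TensorProduct.mk R S _ 1 ∘ₗ Z.subtype
  have hLi : ∀ y i, L i (i' y) = (LocalizedModule.mkLinearMap _ N).lTensor S y := fun y i => by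
    simpa using hL i (i' y) 0 y (by simp)
  have hP : ∀ (y : S ⊗[R] N) i, P ((d₀ f N).lTensor S y) i = (LocalizedModule.mkLinearMap _ N).lTensor S y := by
    intro y i
    induction y using TensorProduct.induction_on with
    | zero => simp
    | tmul s n => simp [P, d₀]
    | add a b ha hb => simp only [map_add, Pi.add_apply, ha, hb]
  have hΛi : ∀ y, Λ (i' y) = P ((d₀ f N).lTensor S y) := fun y => funext fun i => (hLi y i).trans (hP y i).symm
  -- torsion
  have hH : ∀ h : Z ⧸ LinearMap.range (d₀' f N), ∃ n : ℕ, ∀ a ∈ Ideal.span (Set.range f) ^ n, a • h = 0 := fun h => by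
    obtain ⟨z, rfl⟩ := Submodule.mkQ_surjective _ h
    obtain ⟨n, hn⟩ := exists_pow_le f _ z (exists_pow_smul_mem f N z)
    exact ⟨n, fun a ha => by rw [← map_smul]; exact (Submodule.Quotient.mk_eq_zero _).2 (hn a ha)⟩
  have hT : ∀ x : LinearMap.ker (d₀' f N), ∃ n : ℕ, ∀ a ∈ Ideal.span (Set.range f) ^ n, a • x = 0 := fun x => by
    obtain ⟨n, hn⟩ := exists_pow_le f (⊥ : Submodule R N) x.1 fun i => by
      have h := congrFun (congrArg Subtype.val x.2) i
      obtain ⟨⟨_, l, rfl⟩, hl⟩ := (IsLocalizedModule.eq_zero_iff (Submonoid.powers (f i))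
        (LocalizedModule.mkLinearMap _ N)).1 h
      exact ⟨l, hl⟩
    exact ⟨n, fun a ha => Subtype.ext (hn a ha)⟩
  have hexZ : Function.Exact ((d₀' f N).lTensor S) ((LinearMap.range (d₀' f N)).mkQ.lTensor S) :=
    lTensor_exact S (LinearMap.exact_map_mkQ_range _) (Submodule.mkQ_surjective _)
  let E : Submodule R (E' × Z) := LinearMap.eqLocus (Λ ∘ₗ LinearMap.fst R E' Z) (ε ∘ₗ LinearMap.snd R E' Z)
  have hiE : ∀ n : N, ((i' ((1 : S) ⊗ₜ[R] n), d₀' f N n) : E' × Z) ∈ E := fun n => by
    show Λ (i' _) = ε (d₀' f N n)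
    rw [hΛi]; rfl
  let i : N →ₗ[R] E := LinearMap.codRestrict E ((i' ∘ₗ TensorProduct.mk R S N 1).prod (d₀' f N)) hiE
  let g : E →ₗ[R] E' := LinearMap.fst R E' Z ∘ₗ E.subtype
  let p : E →ₗ[R] M := μ.symm.toLinearMap ∘ₗ p' ∘ₗ g
  refine ⟨E, inferInstance, inferInstance, i, p, g, ?_, ?_, ?_, fun n => rfl, fun e => ?_⟩
  · rw [injective_iff_map_eq_zero]
    intro n hn
    have h1 : i' ((1 : S) ⊗ₜ[R] n) = 0 := congrArg (fun x : E => x.1.1) hn
    have h2 : d₀' f N n = 0 := congrArg (fun x : E => x.1.2) hn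
    obtain ⟨m, hm⟩ := hT ⟨n, h2⟩
    exact FormalGlueH7.eq_zero_of_torsion hq (n := m) (fun a ha => congrArg Subtype.val (hm a ha))
      (hi' (h1.trans (map_zero i').symm))
  · intro m
    obtain ⟨e, he'⟩ := hp' (μ m)
    have hker : (d₁ f N).lTensor S (P.symm (Λ e)) = 0 := by
      refine P₂.injective (funext fun ij => ?_)
      rw [map_zero, Pi.zero_apply]
      have key : ∀ w : S ⊗[R] (Π i, Loc f N i), P₂ ((d₁ f N).lTensor S w) ij =
          (resFst f N ij).lTensor S (P w ij.1) - (resSnd f N ij).lTensor S (P w ij.2) := fun w => by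
        induction w using TensorProduct.induction_on with
        | zero => simp
        | tmul s n => simp [P, P₂, d₁, TensorProduct.tmul_sub]
        | add a b ha hb => simp only [map_add, Pi.add_apply, ha, hb]; abel
      rw [key, LinearEquiv.apply_symm_apply]
      obtain ⟨k, y, hy⟩ := he e ij.1
      obtain ⟨k', y', hy'⟩ := he e ij.2
      -- multiply by a power of `f i * f j`
      have hyy : f ij.2 ^ k' • y = f ij.1 ^ k • y' := hi' (by rw [map_smul, map_smul, hy, hy', smul_comm])
      have h1 : (f ij.1 ^ k * f ij.2 ^ k') • ((resFst f N ij).lTensor S (L ij.1 e) -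
          (resSnd f N ij).lTensor S (L ij.2 e)) = 0 := by
        have ha : (f ij.1 ^ k * f ij.2 ^ k') • L ij.1 e =
            (LocalizedModule.mkLinearMap _ N).lTensor S (f ij.2 ^ k' • y) := by
          rw [mul_comm, mul_smul, hL ij.1 e k y hy.symm, map_smul]
        have hb : (f ij.1 ^ k * f ij.2 ^ k') • L ij.2 e =
            (LocalizedModule.mkLinearMap _ N).lTensor S (f ij.1 ^ k • y') := by
          rw [mul_smul, hL ij.2 e k' y' hy'.symm, map_smul]
        rw [smul_sub, ← map_smul ((resFst f N ij).lTensor S), ← map_smul ((resSnd f N ij).lTensor S), ha, hb, hyy, ← LinearMap.comp_apply, ← LinearMap.lTensor_comp,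
          ← LinearMap.comp_apply ((resSnd f N ij).lTensor S), ← LinearMap.lTensor_comp, ← LinearMap.sub_apply,
          ← LinearMap.lTensor_sub, show resFst f N ij ∘ₗ LocalizedModule.mkLinearMap _ N -
            resSnd f N ij ∘ₗ LocalizedModule.mkLinearMap _ N = 0 from
              LinearMap.ext fun n => by rw [LinearMap.sub_apply, LinearMap.comp_apply, LinearMap.comp_apply, resSnd_mk, sub_self, LinearMap.zero_apply], LinearMap.lTensor_zero, LinearMap.zero_apply]
      have hu : Function.Bijective (algebraMap R (Module.End R (Loc₂ f N ij)) (f ij.1 ^ k * f ij.2 ^ k')) := by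
        rw [← Module.End.isUnit_iff, map_mul]
        refine IsUnit.mul ?_ (IsLocalizedModule.map_units (LocalizedModule.mkLinearMap _ (Loc f N ij.1))
          (⟨f ij.2 ^ k', k', rfl⟩ : Submonoid.powers (f ij.2)))
        rw [Module.End.isUnit_iff]
        have hb := (Module.End.isUnit_iff _).1 (isUnit_loc f N ij.1 ⟨f ij.1 ^ k, k, rfl⟩)
        have hloc : ⇑(algebraMap R (Module.End R (Loc₂ f N ij)) (f ij.1 ^ k)) = IsLocalizedModule.map (Submonoid.powers (f ij.2))
            (LocalizedModule.mkLinearMap _ (Loc f N ij.1)) (LocalizedModule.mkLinearMap _ (Loc f N ij.1))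
            (algebraMap R (Module.End R (Loc f N ij.1)) (f ij.1 ^ k)) := by
          refine congrArg DFunLike.coe (IsLocalizedModule.linearMap_ext (Submonoid.powers (f ij.2))
            (LocalizedModule.mkLinearMap _ (Loc f N ij.1)) (LocalizedModule.mkLinearMap _ (Loc f N ij.1)) ?_)
          refine LinearMap.ext fun x => ?_
          rw [LinearMap.comp_apply, LinearMap.comp_apply, IsLocalizedModule.map_apply]
          exact ((LocalizedModule.mkLinearMap _ (Loc f N ij.1)).map_smul _ _).symm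
        rw [hloc]
        exact ⟨IsLocalizedModule.map_injective _ _ _ _ hb.1, IsLocalizedModule.map_surjective _ _ _ _ hb.2⟩
      have hz : ∀ z : S ⊗[R] Loc₂ f N ij, (LinearEquiv.lTensor S (LinearEquiv.ofBijective _ hu)) z =
          (f ij.1 ^ k * f ij.2 ^ k') • z := fun z => by
        induction z using TensorProduct.induction_on with
        | zero => simp
        | tmul s n =>
          show s ⊗ₜ[R] ((f ij.1 ^ k * f ij.2 ^ k') • n) = _
          rw [TensorProduct.smul_tmul', TensorProduct.smul_tmul]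
        | add a b ha hb => rw [map_add, smul_add, ha, hb]
      refine (LinearEquiv.lTensor S (LinearEquiv.ofBijective _ hu)).injective ?_
      rw [hz, map_zero]
      exact h1
    obtain ⟨w, hw⟩ := (Module.Flat.lTensor_exact S (LinearMap.exact_subtype_ker_map (d₁ f N)) _).1 hker
    obtain ⟨h, hh⟩ := FormalGlueH7.mk_surjective_of_torsion hq hH ((LinearMap.range (d₀' f N)).mkQ.lTensor S w)
    obtain ⟨z₀, rfl⟩ := Submodule.mkQ_surjective _ h
    obtain ⟨x, hx⟩ := (hexZ (w - (1 : S) ⊗ₜ[R] z₀)).1 (by rw [map_sub, ← hh]; simp)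
    have hmem : ((e - i' x, z₀) : E' × Z) ∈ E := by
      show Λ (e - i' x) = ε z₀
      rw [map_sub, hΛi]
      have h3 : (LinearMap.ker (d₁ f N)).subtype.lTensor S ((d₀' f N).lTensor S x) = (d₀ f N).lTensor S x := by
        rw [← LinearMap.comp_apply, ← LinearMap.lTensor_comp]; rfl
      have h4 : P.symm (Λ e) = (d₀ f N).lTensor S x + (1 : S) ⊗ₜ[R] (z₀ : Π i, Loc f N i) := by
        rw [← hw, ← h3, hx, map_sub, LinearMap.lTensor_tmul, Submodule.subtype_apply, sub_add_cancel]
      rw [LinearEquiv.symm_apply_eq] at h4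
      rw [h4, map_add, add_sub_cancel_left]
      rfl
    refine ⟨⟨_, hmem⟩, ?_⟩
    show μ.symm (p' (e - i' x)) = m
    rw [map_sub, hex.apply_apply_eq_zero, sub_zero, he', LinearEquiv.symm_apply_apply]
  · refine le_antisymm ?_ fun ⟨⟨e, z⟩, hez⟩ hp => ?_
    · rintro _ ⟨n, rfl⟩
      show μ.symm (p' (i' _)) = 0
      rw [hex.apply_apply_eq_zero, map_zero]
    · obtain ⟨y, rfl⟩ := (hex e).1 (μ.symm.map_eq_zero_iff.1 hp)
      have hez' : Λ (i' y) = ε z := hez
      rw [hΛi] at hez'
      have h5 : (d₀ f N).lTensor S y = (1 : S) ⊗ₜ[R] (z : Π i, Loc f N i) := P.injective hez'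
      have h6 : (d₀' f N).lTensor S y = (1 : S) ⊗ₜ[R] z := by
        apply Module.Flat.lTensor_preserves_injective_linearMap (M := S) (LinearMap.ker (d₁ f N)).subtype
          (Submodule.injective_subtype _)
        rw [← LinearMap.comp_apply, ← LinearMap.lTensor_comp, LinearMap.lTensor_tmul]
        exact h5
      have h7 : (LinearMap.range (d₀' f N)).mkQ z = 0 := by
        refine (FormalGlueH7.mk_bijective_of_torsion hq hH).1 ?_
        rw [map_zero]
        show (1 : S) ⊗ₜ[R] (LinearMap.range (d₀' f N)).mkQ z = 0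
        rw [← LinearMap.lTensor_tmul, ← h6]
        exact hexZ.apply_apply_eq_zero y
      obtain ⟨n₁, rfl⟩ := (Submodule.Quotient.mk_eq_zero _).1 h7
      obtain ⟨w, hw⟩ := (Module.Flat.lTensor_exact S (LinearMap.exact_subtype_ker_map (d₀' f N)) (y - (1 : S) ⊗ₜ[R] n₁)).1
        (by rw [map_sub, h6, LinearMap.lTensor_tmul, sub_self])
      obtain ⟨x, rfl⟩ := FormalGlueH7.mk_surjective_of_torsion hq hT w
      refine ⟨n₁ + x, Subtype.ext (Prod.ext ?_ ?_)⟩
      · show i' ((1 : S) ⊗ₜ[R] (n₁ + x.1)) = i' y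
        rw [TensorProduct.tmul_add, show (1 : S) ⊗ₜ[R] (x.1 : N) = y - (1 : S) ⊗ₜ[R] n₁ from hw, add_sub_cancel]
      · show d₀' f N (n₁ + x.1) = d₀' f N n₁
        rw [map_add, x.2, add_zero]
  · exact (μ.apply_symm_apply (p' (g e))).symm

end Groth.Agent.GlueExtH7
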